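import Cfsg.Agent.Lib.FusionHeis.Field
import Cfsg.Agent.Lib.Linear.SpBlocks
import Cfsg.Agent.Lib.OddStable.Quadratic
import Cfsg.Agent.Lib.PStab.Pair
import Cfsg.Agent.Lib.FusionChain.Stabilizer

/-
Automorphism groups of `K × K` having the transvections `(x, c) ↦ (x, c + m x)` as a non-normal
Sylow `p`-subgroup fix no nonzero `(0, w)` projectively inside the line `x = 0`.
Main result: `FusionHeis.Act.false_of_line`.
-/

set_option autoImplicit false

namespace Cfsg.Agent.FusionHeis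

open Cfsg.Agent.Linear

variable {K : Type*} [Field K]

/-- A faithful action of `A` on `K × K` in which the Sylow `p`-subgroup `P` consists of all the
transvections along the second axis. -/
structure Act (p : ℕ) (K : Type*) [Field K] (A : Type*) [Group A] where
  ρ : A →* AddMonoid.End (K × K)
  inj : Function.Injective ρ
  τ : K → A
  τ_apply : ∀ (m : K) (v : K × K), ρ (τ m) v = (v.1, v.2 + m * v.1)
  P : Sylow p A
  mem_P : ∀ a : A, a ∈ P ↔ ∃ m, τ m = a

namespace Act

variable {p : ℕ} {A : Type*} [Group A] (D : Act p K A)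

theorem mul_apply (a b : A) (v : K × K) : D.ρ (a * b) v = D.ρ a (D.ρ b v) := by
  rw [map_mul]; rfl

theorem one_apply (v : K × K) : D.ρ 1 v = v := by
  rw [map_one]; rfl

theorem inv_apply (a : A) (v : K × K) : D.ρ a⁻¹ (D.ρ a v) = v := by
  rw [← D.mul_apply, inv_mul_cancel, D.one_apply]

theorem apply_inv (a : A) (v : K × K) : D.ρ a (D.ρ a⁻¹ v) = v := by
  rw [← D.mul_apply, mul_inv_cancel, D.one_apply]

theorem act_inj (a : A) {v w : K × K} (h : D.ρ a v = D.ρ a w) : v = w := by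
  rw [← D.inv_apply a v, h, D.inv_apply]

theorem ext {a b : A} (h : ∀ v, D.ρ a v = D.ρ b v) : a = b := D.inj (AddMonoidHom.ext h)

theorem τ_mem (m : K) : D.τ m ∈ D.P := (D.mem_P _).2 ⟨m, rfl⟩

theorem τ_zero : D.τ 0 = 1 := D.ext fun v => by
  rw [D.τ_apply, D.one_apply]; simp

theorem τ_sub (m : K) (v : K × K) : D.ρ (D.τ m) v - v = (0, m * v.1) := by
  rw [D.τ_apply]; ext <;> simp

theorem eq_zero_of_fix {m : K} {v : K × K} (hm : m ≠ 0) (h : D.ρ (D.τ m) v = v) : v.1 = 0 := by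
  have := D.τ_sub m v
  rw [h, sub_self] at this
  exact (mul_eq_zero.1 (congrArg Prod.snd this).symm).resolve_left hm

theorem τ_fix (m c : K) : D.ρ (D.τ m) (0, c) = (0, c) := by
  rw [D.τ_apply]; simp

theorem τ_ne_one {m : K} (hm : m ≠ 0) : D.τ m ≠ 1 := fun h => by
  have := D.eq_zero_of_fix (v := ((1 : K), (0 : K))) hm (by rw [h, D.one_apply])
  exact one_ne_zero this

variable [Finite A]

/-- The stabilizer of the line `x = 0`. -/
noncomputable def St : Subgroup A := subgroupOfSubmonoidFinite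
  { carrier := {a | ∀ c : K, (D.ρ a (0, c)).1 = 0}
    one_mem' := fun c => by rw [D.one_apply]
    mul_mem' := fun {a b} ha hb c => by
      have h : D.ρ b (0, c) = (0, (D.ρ b (0, c)).2) := Prod.ext (hb c) rfl
      rw [D.mul_apply, h]
      exact ha _ }

theorem mem_St {a : A} : a ∈ D.St ↔ ∀ c : K, (D.ρ a (0, c)).1 = 0 := Iff.rfl

/-- The stabilizer of the chain `0 ≤ {x = 0} ≤ K × K`. -/
noncomputable def Fix : Subgroup A := subgroupOfSubmonoidFinite
  { carrier := {a | (∀ c : K, D.ρ a (0, c) = (0, c)) ∧ ∀ v, (D.ρ a v).1 = v.1}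
    one_mem' := ⟨fun c => D.one_apply _, fun v => by rw [D.one_apply]⟩
    mul_mem' := fun {a b} ha hb => ⟨fun c => by rw [D.mul_apply, hb.1, ha.1],
      fun v => by rw [D.mul_apply, ha.2, hb.2]⟩ }

theorem mem_Fix {a : A} :
    a ∈ D.Fix ↔ (∀ c : K, D.ρ a (0, c) = (0, c)) ∧ ∀ v, (D.ρ a v).1 = v.1 := Iff.rfl

theorem Fix_le_St : D.Fix ≤ D.St := fun a ha c => by rw [(D.mem_Fix.1 ha).1]

theorem τ_mem_Fix (m : K) : D.τ m ∈ D.Fix :=
  D.mem_Fix.2 ⟨D.τ_fix m, fun v => by rw [D.τ_apply]⟩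

theorem conj_mem_Fix {g a : A} (hg : g ∈ D.St) (ha : a ∈ D.Fix) : g * a * g⁻¹ ∈ D.Fix := by
  obtain ⟨h1, h2⟩ := D.mem_Fix.1 ha
  refine D.mem_Fix.2 ⟨fun c => ?_, fun v => ?_⟩
  · have h : D.ρ g⁻¹ (0, c) = (0, (D.ρ g⁻¹ (0, c)).2) :=
      Prod.ext (D.mem_St.1 (inv_mem hg) c) rfl
    rw [D.mul_apply, D.mul_apply, h, h1, ← h, D.apply_inv]
  · set u := D.ρ g⁻¹ v
    have h : D.ρ a u = u + (0, (D.ρ a u).2 - u.2) := Prod.ext (by simp [h2]) (by simp)
    rw [D.mul_apply, D.mul_apply, h, map_add, Prod.fst_add, D.mem_St.1 hg, add_zero, D.apply_inv]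

theorem pow_p_Fix [CharP K p] {a : A} (ha : a ∈ D.Fix) : a ^ p = 1 := by
  obtain ⟨h1, h2⟩ := D.mem_Fix.1 ha
  have key : ∀ (n : ℕ) (v : K × K), D.ρ (a ^ n) v = v + (0, (n : K) * ((D.ρ a v).2 - v.2)) := by
    intro n
    induction n with
    | zero => intro v; rw [pow_zero, D.one_apply]; simp
    | succ n ih =>
      intro v
      have h : D.ρ a v = v + (0, (D.ρ a v).2 - v.2) := Prod.ext (by simp [h2]) (by simp)
      rw [pow_succ', D.mul_apply, ih, map_add, h1, h, add_assoc]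
      congr 1
      ext <;> simp
      ring
  exact D.ext fun v => by rw [key, CharP.cast_eq_zero, zero_mul, D.one_apply]; simp

theorem Fix_eq [Fact p.Prime] [CharP K p] : D.Fix = (D.P : Subgroup A) :=
  D.P.is_maximal' (fun a => ⟨1, Subtype.ext (by rw [pow_one]; exact D.pow_p_Fix a.2)⟩)
    fun a ha => by
      obtain ⟨m, rfl⟩ := (D.mem_P a).1 ha
      exact D.τ_mem_Fix m

theorem mem_normalizer_of_St [Fact p.Prime] [CharP K p] {g : A} (hg : g ∈ D.St) :
    g ∈ Subgroup.normalizer ((D.P : Subgroup A) : Set A) := by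
  refine Subgroup.mem_normalizer_iff.2 fun a => ?_
  rw [← D.Fix_eq]
  refine ⟨D.conj_mem_Fix hg, fun h => ?_⟩
  have := D.conj_mem_Fix (inv_mem hg) h
  simpa [mul_assoc] using this

/-- A `p`-element commuting with a nontrivial transvection is a transvection. -/
theorem mem_P_of_comm [Fact p.Prime] [CharP K p] {a : A} {m : K} (hm : m ≠ 0)
    (hc : a * D.τ m = D.τ m * a) {k : ℕ} (hk : a ^ p ^ k = 1) : a ∈ D.P := by
  have hSt : a ∈ D.St := fun c => D.eq_zero_of_fix hm (by
    rw [← D.mul_apply, ← hc, D.mul_apply, D.τ_fix])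
  have hz : IsPGroup p (Subgroup.zpowers a) := fun x => by
    obtain ⟨i, hi⟩ := Subgroup.mem_zpowers_iff.1 x.2
    refine ⟨k, Subtype.ext ?_⟩
    rw [SubgroupClass.coe_pow, ← hi, ← zpow_natCast, ← zpow_mul, mul_comm, zpow_mul, zpow_natCast,
      hk, one_zpow, Subgroup.coe_one]
  have := hz.inf_normalizer_sylow D.P
  have h : a ∈ Subgroup.zpowers a ⊓ Subgroup.normalizer ((D.P : Subgroup A) : Set A) :=
    ⟨Subgroup.mem_zpowers a, D.mem_normalizer_of_St hSt⟩
  exact ((SetLike.ext_iff.1 this a).1 h).2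

theorem St_of_comm {a : A} {m : K} (hm : m ≠ 0) (hc : a * D.τ m = D.τ m * a) : a ∈ D.St :=
  fun c => D.eq_zero_of_fix hm (by rw [← D.mul_apply, ← hc, D.mul_apply, D.τ_fix])

theorem mul_τ (m n : K) : D.τ m * D.τ n = D.τ (m + n) := D.ext fun v => by
  rw [D.mul_apply, D.τ_apply, D.τ_apply, D.τ_apply]
  ext <;> simp
  ring

theorem false_of_line [Finite K] [Fact p.Prime] [CharP K p]
    (hn : ¬ (D.P : Subgroup A).Normal) {w : K} (hw0 : w ≠ 0)
    (hw : ∀ a : A, (D.ρ a (0, w)).1 = 0) : False := by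
  classical
  obtain ⟨g, hgN⟩ : ∃ g, g ∉ Subgroup.normalizer ((D.P : Subgroup A) : Set A) := by
    by_contra h
    push Not at h
    exact hn (Subgroup.normalizer_eq_top_iff.1 (eq_top_iff.2 fun g _ => h g))
  have hgSt : g ∉ D.St := fun h => hgN (D.mem_normalizer_of_St h)
  set w2 := (D.ρ g⁻¹ (0, w)).2 with hw2
  have hgw : D.ρ g⁻¹ (0, w) = (0, w2) := Prod.ext (hw g⁻¹) rfl
  have hgw2 : D.ρ g (0, w2) = (0, w) := by rw [← hgw, D.apply_inv]
  have hw20 : w2 ≠ 0 := fun h => by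
    rw [h] at hgw2
    rw [show ((0 : K), (0 : K)) = 0 from rfl, map_zero] at hgw2
    exact hw0 (congrArg Prod.snd hgw2).symm
  -- the projection of the image of the line
  let φ : K →+ K :=
    { toFun := fun c => (D.ρ g (0, c)).1
      map_zero' := by rw [show ((0 : K), (0 : K)) = 0 from rfl, map_zero]; rfl
      map_add' := fun a b => by rw [← Prod.fst_add, ← map_add]; simp }
  set X0 := φ.range
  obtain ⟨x0, hx0⟩ : ∃ x, x ∉ X0 := by
    by_contra h
    push Not at h
    have hs : Function.Surjective φ := fun x => h x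
    exact hw20 ((Finite.injective_iff_surjective.2 hs) (a₁ := w2) (a₂ := 0)
      (by rw [map_zero]; exact congrArg Prod.fst hgw2))
  obtain ⟨x1, hx1, hx10⟩ : ∃ x ∈ X0, x ≠ 0 := by
    by_contra h
    push Not at h
    exact hgSt fun c => h _ ⟨c, rfl⟩
  -- the subgroup moving everything inside `X0` and fixing `(0, w)`
  let H : Subgroup A := subgroupOfSubmonoidFinite
    { carrier := {a | D.ρ a (0, w) = (0, w) ∧ ∀ v, (D.ρ a v - v).1 ∈ X0}
      one_mem' := ⟨D.one_apply _, fun v => by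
        rw [D.one_apply, sub_self]; exact zero_mem X0⟩
      mul_mem' := fun {a b} ha hb => ⟨by rw [D.mul_apply, hb.1, ha.1], fun v => by
        have := add_mem (ha.2 (D.ρ b v)) (hb.2 v)
        rwa [← Prod.fst_add, sub_add_sub_cancel, ← D.mul_apply] at this⟩ }
  have hH : ∀ a, a ∈ H ↔ D.ρ a (0, w) = (0, w) ∧ ∀ v, (D.ρ a v - v).1 ∈ X0 := fun a => Iff.rfl
  have hPH : ∀ m, D.τ m ∈ H := fun m => (hH _).2 ⟨D.τ_fix m w, fun v => by
    rw [D.τ_sub]; exact zero_mem X0⟩
  have hRsub : ∀ m v, D.ρ (g * D.τ m * g⁻¹) v - v = D.ρ g (0, m * (D.ρ g⁻¹ v).1) := fun m v => by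
    conv_lhs => rw [D.mul_apply, D.mul_apply]; arg 2; rw [← D.apply_inv g v]
    rw [← map_sub, D.τ_sub]
  have hRw : ∀ m, D.ρ (g * D.τ m * g⁻¹) (0, w) = (0, w) := fun m => by
    rw [D.mul_apply, D.mul_apply, hgw, D.τ_fix, hgw2]
  have hRH : ∀ m, g * D.τ m * g⁻¹ ∈ H := fun m => (hH _).2 ⟨hRw m, fun v => by
    rw [hRsub]; exact ⟨_, rfl⟩⟩
  -- intersection of the two Sylow subgroups
  have hPR : ∀ n, g * D.τ n * g⁻¹ ∈ D.P → n = 0 := fun n hn' => by
    obtain ⟨m, hm⟩ := (D.mem_P _).1 hn'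
    by_contra hn0
    rcases eq_or_ne m 0 with rfl | hm0
    · exact D.τ_ne_one hn0 (conj_eq_one_iff.1 (by rw [← hm, D.τ_zero]))
    · exact hgSt fun c => D.eq_zero_of_fix hm0 (by
        rw [hm, D.mul_apply, D.mul_apply, D.inv_apply, D.τ_fix])
  suffices key : ∀ x, x ∉ X0 → ∃ θ : K ≃+* K,
      (∀ y, θ (θ y) = y) ∧ (∃ y, θ y ≠ y) ∧ ∀ y, x * θ y - x * y ∈ X0 by
    obtain ⟨θ, hθ, ⟨y0, hy0⟩, -⟩ := key x0 hx0
    set δ := θ y0 - y0
    have hout : ∀ x, x ∉ X0 → x * δ ∈ X0 := fun x hx => by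
      obtain ⟨θ', hθ', ⟨y1, hy1⟩, hX⟩ := key x hx
      rw [mul_sub, ← ringAut_involution_unique hθ' hθ hy1 hy0 y0]
      exact hX y0
    have hall : ∀ x, x * δ ∈ X0 := fun x => by
      by_cases hx : x ∈ X0
      · have := sub_mem (hout (x + x0) fun h => hx0 (by simpa using sub_mem h hx)) (hout x0 hx0)
        rwa [add_mul, add_sub_cancel_right] at this
      · exact hout x hx
    exact hx0 (div_mul_cancel₀ x0 (sub_ne_zero.2 hy0) ▸ hall (x0 / δ))
  clear! x0
  intro x0 hx0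
  set m0 := w / x0 with hm0
  have hx00 : x0 ≠ 0 := fun h => hx0 (h ▸ zero_mem X0)
  have hm00 : m0 ≠ 0 := div_ne_zero hw0 hx00
  set v : K × K := (x0, 0) with hv
  have hrv : D.ρ (D.τ m0) v = v + (0, w) := by
    rw [D.τ_apply, hm0, hv]; ext <;> simp [div_mul_cancel₀ w hx00]
  set x' := (D.ρ g⁻¹ v).1 with hx'
  have hx'0 : x' ≠ 0 := fun h => hx0 ⟨(D.ρ g⁻¹ v).2, by
    show (D.ρ g (0, (D.ρ g⁻¹ v).2)).1 = x0
    rw [show ((0 : K), (D.ρ g⁻¹ v).2) = D.ρ g⁻¹ v from Prod.ext h.symm rfl, D.apply_inv]⟩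
  set n0 := w2 / x' with hn0
  have hn00 : n0 ≠ 0 := div_ne_zero hw20 hx'0
  set r' := g * D.τ n0 * g⁻¹ with hr'
  have hr'v : D.ρ r' v = v + (0, w) := by
    rw [← sub_eq_iff_eq_add']
    rw [hr', hRsub, ← hx', hn0, div_mul_cancel₀ _ hx'0, hgw2]
  by_cases hp : p = 2
  · subst hp
    exfalso
    have hsq : ∀ m, D.τ m * D.τ m = 1 := fun m => by
      rw [D.mul_τ, CharTwo.add_self_eq_zero, D.τ_zero]
    have hconj : ∀ m, m ≠ 0 → ∃ h ∈ H, h * D.τ m * h⁻¹ = r' := by
      intro m hm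
      set y := D.τ m * r' with hy
      have hr2 : r' * r' = 1 := by
        calc r' * r' = g * (D.τ n0 * D.τ n0) * g⁻¹ := by rw [hr']; group
          _ = 1 := by rw [hsq]; group
      have hti : (D.τ m)⁻¹ = D.τ m := inv_eq_of_mul_eq_one_right (hsq m)
      have hri : r'⁻¹ = r' := inv_eq_of_mul_eq_one_right hr2
      have hinv : D.τ m * y * (D.τ m)⁻¹ = y⁻¹ := by
        rw [hy, mul_inv_rev, hri, hti, ← mul_assoc, hsq, one_mul]
      have hodd : Odd (orderOf y) := by
        by_contra hev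
        obtain ⟨d, hd⟩ := Nat.not_odd_iff_even.1 hev
        set s := y ^ d with hs
        have hdpos : 0 < d := by have := orderOf_pos y; omega
        have hs1 : s ≠ 1 := fun h => by
          have := Nat.le_of_dvd hdpos (orderOf_dvd_of_pow_eq_one h)
          omega
        have hs2 : s * s = 1 := by rw [hs, ← pow_add, ← hd, pow_orderOf_eq_one]
        have hsi : s⁻¹ = s := inv_eq_of_mul_eq_one_right hs2
        have hc1 : s * D.τ m = D.τ m * s := by
          have : D.τ m * s * (D.τ m)⁻¹ = s := by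
            rw [hs, ← conj_pow, hinv, inv_pow, ← hs, hsi]
          rw [mul_inv_eq_iff_eq_mul] at this
          exact this.symm
        have hc2 : s * r' = r' * s := by
          have h : Commute s y := Commute.pow_self y d
          have h' : r' = D.τ m * y := by rw [hy, ← mul_assoc, hsq, one_mul]
          rw [h']
          exact (Commute.mul_right hc1 h).eq
        have hsP := D.mem_P_of_comm hm hc1 (k := 1) (by rw [pow_one, pow_two, hs2])
        have hsR : g⁻¹ * s * g ∈ D.P := by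
          refine D.mem_P_of_comm hn00 ?_ (k := 1) ?_
          · calc g⁻¹ * s * g * D.τ n0 = g⁻¹ * (s * r') * g := by rw [hr']; group
              _ = g⁻¹ * (r' * s) * g := by rw [hc2]
              _ = D.τ n0 * (g⁻¹ * s * g) := by rw [hr']; group
          · rw [pow_one, pow_two]
            calc g⁻¹ * s * g * (g⁻¹ * s * g) = g⁻¹ * (s * s) * g := by group
              _ = 1 := by rw [hs2]; group
        obtain ⟨n, hn'⟩ := (D.mem_P _).1 hsR
        have hsn : s = g * D.τ n * g⁻¹ := by rw [hn']; group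
        have := hPR n (hsn ▸ hsP)
        exact hs1 (by rw [hsn, this, D.τ_zero, mul_one, mul_inv_cancel])
      obtain ⟨k, hk⟩ := hodd
      have hyH : y ^ k ∈ H := pow_mem (mul_mem (hPH m) (hRH n0)) k
      refine ⟨y ^ k, hyH, ?_⟩
      have h1 : D.τ m * (y ^ k)⁻¹ = y ^ k * D.τ m := by
        have : D.τ m * y ^ k * (D.τ m)⁻¹ = (y ^ k)⁻¹ := by rw [← conj_pow, hinv, inv_pow]
        rw [← this, hti, ← mul_assoc, ← mul_assoc, hsq, one_mul]
      have h2 : y ^ (k + k) = y⁻¹ := eq_inv_of_mul_eq_one_left (by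
        rw [← pow_succ, ← two_mul, ← hk, pow_orderOf_eq_one])
      rw [mul_assoc, h1, ← mul_assoc, ← pow_add, h2, hy, mul_inv_rev, hri, hti, mul_assoc, hsq,
        mul_one]
    obtain ⟨a, ha, ha'⟩ := hconj m0 hm00
    obtain ⟨b, hb, hb'⟩ := hconj (w / x1) (div_ne_zero hw0 hx10)
    have hh : b⁻¹ * a ∈ H := mul_mem (inv_mem hb) ha
    set h := b⁻¹ * a with hh'
    have hhr : h * D.τ m0 = D.τ (w / x1) * h := by
      rw [hh']
      calc b⁻¹ * a * D.τ m0 = b⁻¹ * (a * D.τ m0 * a⁻¹) * a := by group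
        _ = b⁻¹ * r' * a := by rw [ha']
        _ = b⁻¹ * (b * D.τ (w / x1) * b⁻¹) * a := by rw [hb']
        _ = D.τ (w / x1) * (b⁻¹ * a) := by group
    obtain ⟨h1, h2⟩ := (hH _).1 hh
    have e : D.ρ (D.τ (w / x1)) (D.ρ h v) - D.ρ h v = (0, w) := by
      rw [← D.mul_apply, ← hhr, D.mul_apply, hrv, map_add, h1, add_sub_cancel_left]
    rw [D.τ_sub] at e
    have e' : w / x1 * (D.ρ h v).1 = w := congrArg Prod.snd e
    have : (D.ρ h v).1 = x1 := by
      rw [div_mul_eq_mul_div, div_eq_iff hx10] at e'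
      exact mul_left_cancel₀ hw0 e'
    have h3 : (D.ρ h v).1 - x0 ∈ X0 := h2 v
    rw [this] at h3
    exact hx0 (by have := sub_mem hx1 h3; rwa [sub_sub_cancel] at this)
  -- odd characteristic
  set r := D.τ m0 with hr
  set Y := Subgroup.closure ({r, r'} : Set A) with hY
  let φY : Y →* MulAut (Multiplicative (K × K)) :=
    { toFun := fun a =>
        { toFun := fun u => Multiplicative.ofAdd (D.ρ (a : A) u.toAdd)
          invFun := fun u => Multiplicative.ofAdd (D.ρ (a : A)⁻¹ u.toAdd)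
          left_inv := fun u => by simp [D.inv_apply]
          right_inv := fun u => by simp [D.apply_inv]
          map_mul' := fun u u' => by simp }
      map_one' := MulEquiv.ext fun u => by simp
      map_mul' := fun a b => MulEquiv.ext fun u => by simp }
  have hφY : ∀ (a : Y) (u : K × K),
      φY a (Multiplicative.ofAdd u) = Multiplicative.ofAdd (D.ρ (a : A) u) := fun a u => rfl
  have hφinj : Function.Injective φY := fun a b h => Subtype.ext (D.ext fun u => by
    have := DFunLike.congr_fun h (Multiplicative.ofAdd u)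
    rwa [hφY, hφY, Multiplicative.ofAdd.injective.eq_iff] at this)
  have hexp : ∀ u : Multiplicative (K × K), u ^ p = 1 := fun u => by
    apply Multiplicative.toAdd.injective
    rw [toAdd_pow, toAdd_one]
    ext <;> simp
  have hrY : r ∈ Y := Subgroup.subset_closure (Set.mem_insert _ _)
  have hr'Y : r' ∈ Y := Subgroup.subset_closure (Set.mem_insert_of_mem _ rfl)
  have hgen : Subgroup.closure ({⟨r, hrY⟩, ⟨r', hr'Y⟩} : Set Y) = ⊤ := by
    rw [eq_top_iff, ← Subgroup.map_le_map_iff_of_injective Y.subtype_injective,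
      MonoidHom.map_closure, Set.image_pair, Subgroup.subtype_apply, Subgroup.subtype_apply,
      ← MonoidHom.range_eq_map, Subgroup.range_subtype]
  have hqr : ∀ u, D.ρ r (D.ρ r u - u) = D.ρ r u - u := fun u => by
    rw [hr, D.τ_sub, D.τ_fix]
  have hqr' : ∀ u, D.ρ r' (D.ρ r' u - u) = D.ρ r' u - u := fun u => by
    rw [hr', hRsub, D.mul_apply, D.mul_apply, D.inv_apply, D.τ_fix]
  have hquad : ∀ (a : Y), (∀ u, D.ρ (a : A) (D.ρ (a : A) u - u) = D.ρ (a : A) u - u) →
      ∀ u, φY a (φY a u * u⁻¹) = φY a u * u⁻¹ := fun a ha u => by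
    apply Multiplicative.toAdd.injective
    have := ha u.toAdd
    simpa [φY, sub_eq_add_neg] using this
  obtain hev | hodd := Nat.even_or_odd (Nat.card Y)
  swap
  · exfalso
    have hYp : IsPGroup p Y := FusionChain.isPGroup_of_coprime_trivial fun y hy =>
      hφinj ((OddStable.aut_eq_one_of_pair hp hodd hexp φY ⟨r, hrY⟩ ⟨r', hr'Y⟩ hgen
        (hquad _ hqr) (hquad _ hqr') hy).trans (map_one φY).symm)
    obtain ⟨Q, hQ⟩ := hYp.exists_le_sylow
    let e := Sylow.equiv Q D.P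
    have hcQ : ∀ a b : (Q : Subgroup A), a * b = b * a := fun a b => e.injective (by
      rw [map_mul, map_mul]
      obtain ⟨m, hm⟩ := (D.mem_P _).1 (e a).2
      obtain ⟨n, hn'⟩ := (D.mem_P _).1 (e b).2
      exact Subtype.ext (by
        rw [Subgroup.coe_mul, Subgroup.coe_mul, ← hm, ← hn', D.mul_τ, D.mul_τ, add_comm]))
    have hc : r' * r = r * r' := congrArg Subtype.val (hcQ ⟨r', hQ hr'Y⟩ ⟨r, hQ hrY⟩)
    have hr'p : r' ^ p ^ 1 = 1 := by
      rw [pow_one, hr', conj_pow, D.pow_p_Fix (D.τ_mem_Fix n0)]; group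
    exact hn00 (hPR n0 (D.mem_P_of_comm hm00 hc hr'p))
  obtain ⟨t, ht⟩ := exists_prime_orderOf_dvd_card' (G := Y) 2 (even_iff_two_dvd.1 hev)
  have htt : t * t = 1 := by rw [← pow_two, ← ht, pow_orderOf_eq_one]
  obtain ⟨hcr, hcr'⟩ := PStab.involution_comm_aut hp hexp φY ⟨r, hrY⟩ ⟨r', hr'Y⟩ hgen
    (hquad _ hqr) (hquad _ hqr') (t := t) (inv_eq_of_mul_eq_one_right htt)
  have htc : (t : A) * r = r * t :=
    (congrArg Subtype.val (hφinj (by rw [map_mul, map_mul]; exact hcr :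
      φY (⟨r, hrY⟩ * t) = φY (t * ⟨r, hrY⟩)))).symm
  set s : A := (t : A) with hs
  have hs2 : s * s = 1 := congrArg Subtype.val htt
  have hs1 : s ≠ 1 := fun h => by
    rw [show t = 1 from Subtype.ext h, orderOf_one] at ht
    omega
  have hYH : Y ≤ H := (Subgroup.closure_le _).2 (by
    intro a ha
    rcases ha with rfl | rfl
    · exact hPH m0
    · exact hRH n0)
  obtain ⟨hsw, hsX⟩ := (hH _).1 (hYH t.2)
  let H' : Subgroup A := subgroupOfSubmonoidFinite
    { carrier := {a | D.ρ a (0, w) = (0, w) ∧ D.ρ a v - v ∈ AddSubgroup.zmultiples ((0 : K), w)}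
      one_mem' := ⟨D.one_apply _, by rw [D.one_apply, sub_self]; exact zero_mem _⟩
      mul_mem' := fun {a b} ha hb => ⟨by rw [D.mul_apply, hb.1, ha.1], by
        obtain ⟨i, hi⟩ := hb.2
        have : D.ρ (a * b) v - v = (D.ρ a v - v) + i • ((0 : K), w) := by
          simp only at hi
          have hb' : D.ρ b v = v + i • ((0 : K), w) := by rw [hi]; abel
          rw [D.mul_apply, hb', map_add, map_zsmul, ha.1]
          abel
        rw [this]
        exact add_mem ha.2 (AddSubgroup.zsmul_mem _ (AddSubgroup.mem_zmultiples _) i)⟩ }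
  have hYH' : Y ≤ H' := (Subgroup.closure_le _).2 (by
    intro a ha
    rcases ha with rfl | rfl
    · exact ⟨D.τ_fix m0 w, by rw [hrv, add_sub_cancel_left]; exact AddSubgroup.mem_zmultiples _⟩
    · exact ⟨hRw n0, by rw [hr'v, add_sub_cancel_left]; exact AddSubgroup.mem_zmultiples _⟩)
  have hsv : D.ρ s v = v := by
    obtain ⟨i, hi⟩ := (hYH' t.2).2
    simp only at hi
    have hb' : D.ρ s v = v + i • ((0 : K), w) := by rw [hi]; abel
    have h2 : D.ρ (s * s) v = v + (i • ((0 : K), w) + i • ((0 : K), w)) := by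
      rw [D.mul_apply, hb', map_add, map_zsmul, hsw, hb', add_assoc]
    rw [hs2, D.one_apply] at h2
    have h3 : (i • ((0 : K), w) + i • ((0 : K), w)).2 = 0 := by
      rw [(left_eq_add).1 h2]; rfl
    rw [hb']
    have h2ne : (2 : K) ≠ 0 := by
      intro h
      have hd : p ∣ 2 := (CharP.cast_eq_zero_iff K p 2).1 (by exact_mod_cast h)
      exact hp ((Nat.prime_dvd_prime_iff_eq Fact.out Nat.prime_two).1 hd)
    have h4 : (i • ((0 : K), w)).2 = 0 := by
      refine (mul_eq_zero.1 (?_ : (2 : K) * _ = 0)).resolve_left h2ne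
      rw [two_mul]
      exact h3
    rw [show i • ((0 : K), w) = 0 from Prod.ext (by simp) h4, add_zero]
  have hsSt : s ∈ D.St := D.St_of_comm hm00 htc
  -- the induced maps on the quotient and on the line
  let σ : K →+ K :=
    { toFun := fun x => (D.ρ s (x, 0)).1
      map_zero' := by rw [show ((0 : K), (0 : K)) = 0 from rfl, map_zero]; rfl
      map_add' := fun a b => by rw [← Prod.fst_add, ← map_add]; simp }
  let σ' : K → K := fun c => (D.ρ s (0, c)).2
  have hσ' : ∀ c, D.ρ s (0, c) = (0, σ' c) := fun c => Prod.ext (D.mem_St.1 hsSt c) rfl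
  have hσ : ∀ u, (D.ρ s u).1 = σ u.1 := fun u => by
    have hu : u = (u.1, 0) + (0, u.2) := by ext <;> simp
    conv_lhs => rw [hu, map_add, hσ', Prod.fst_add, add_zero]
    rfl
  have hσσ : ∀ x, σ (σ x) = x := fun x => by
    show σ (D.ρ s (x, 0)).1 = x
    rw [← hσ, ← D.mul_apply, hs2, D.one_apply]
  have hσx0 : σ x0 = x0 := congrArg Prod.fst hsv
  have hσX : ∀ x, σ x - x ∈ X0 := fun x => hsX (x, 0)
  have hnorm : ∀ m, ∃ m', ∀ x, σ' (m * x) = m' * σ x := fun m => by
    obtain ⟨m', hm'⟩ := (D.mem_P _).1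
      ((Subgroup.mem_normalizer_iff.1 (D.mem_normalizer_of_St hsSt) _).1 (D.τ_mem m))
    refine ⟨m', fun x => ?_⟩
    have h := D.τ_sub m' (D.ρ s (x, 0))
    rw [hm', D.mul_apply, D.mul_apply, D.inv_apply, ← map_sub, D.τ_sub, hσ', hσ] at h
    exact congrArg Prod.snd h
  have hrel : ∀ x, σ' (m0 * x) = m0 * σ x := fun x => by
    have h := D.τ_sub m0 (D.ρ s (x, 0))
    rw [← hr, ← D.mul_apply, ← htc, D.mul_apply, ← map_sub, hr, D.τ_sub, hσ', hσ] at h
    exact congrArg Prod.snd h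
  let θ : K → K := fun y => σ (x0 * y) / x0
  have hθσ : ∀ y, σ (x0 * y) = x0 * θ y := fun y => (mul_div_cancel₀ _ hx00).symm
  have hθmul : ∀ y z, θ (y * z) = θ y * θ z := fun y z => by
    obtain ⟨m', hm'⟩ := hnorm (m0 * z)
    have e1 := hm' x0
    have e2 := hm' (x0 * y)
    rw [mul_assoc, hrel, mul_comm z, hθσ, hσx0] at e1
    rw [mul_assoc, hrel, show z * (x0 * y) = x0 * (y * z) by ring, hθσ, hθσ] at e2
    have em : m' = m0 * θ z := mul_right_cancel₀ hx00 (by linear_combination -e1)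
    rw [em] at e2
    exact mul_left_cancel₀ (mul_ne_zero hm00 hx00) (by linear_combination e2)
  have hθθ : ∀ y, θ (θ y) = y := fun y => by
    show σ (x0 * θ y) / x0 = y
    rw [← hθσ, hσσ, mul_div_cancel_left₀ _ hx00]
  let θe : K ≃+* K :=
    { toFun := θ
      invFun := θ
      left_inv := hθθ
      right_inv := hθθ
      map_mul' := hθmul
      map_add' := fun y z => by
        show σ (x0 * (y + z)) / x0 = σ (x0 * y) / x0 + σ (x0 * z) / x0
        rw [mul_add, map_add, add_div] }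
  have hθne : ∃ y, θ y ≠ y := by
    by_contra h
    push Not at h
    have hσid : ∀ x, σ x = x := fun x => by
      have := hθσ (x / x0)
      rwa [h, mul_div_cancel₀ _ hx00] at this
    have hσ'id : ∀ c, σ' c = c := fun c => by
      have := hrel (c / m0)
      rwa [hσid, mul_div_cancel₀ _ hm00] at this
    have hsF : s ∈ D.Fix := D.mem_Fix.2 ⟨fun c => by rw [hσ', hσ'id],
      fun u => by rw [hσ, hσid]⟩
    obtain ⟨j, hj⟩ := (Fact.out : p.Prime).odd_of_ne_two hp
    have := D.pow_p_Fix hsF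
    rw [hj, pow_succ, pow_mul, pow_two, hs2, one_pow, one_mul] at this
    exact hs1 this
  refine ⟨θe, hθθ, hθne, fun y => ?_⟩
  show x0 * θ y - x0 * y ∈ X0
  rw [← hθσ]
  exact hσX _

end Act

end Cfsg.Agent.FusionHeis
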