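import Cfsg.Agent.EqLemmas
import Mathlib.FieldTheory.Finite.Basic
import Mathlib.GroupTheory.SpecificGroups.Cyclic

/-
A finite field has at most one automorphism of order two.
Main result: `FusionHeis.ringAut_involution_unique`.
-/

set_option autoImplicit false

namespace Cfsg.Agent.FusionHeis

variable {K : Type*} [Field K] [Finite K]

theorem ringAut_involution_unique {f g : K ≃+* K} (hf : ∀ x, f (f x) = x) (hg : ∀ x, g (g x) = x)
    {a : K} (ha : f a ≠ a) {b : K} (hb : g b ≠ b) (x : K) : f x = g x := by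
  classical
  obtain ⟨p, hc⟩ := CharP.exists K
  haveI := Fact.mk (CharP.char_is_prime K p)
  letI : Algebra (ZMod p) K := ZMod.algebra K p
  have hcomm : ∀ (h : K ≃+* K) (r : ZMod p), h (algebraMap (ZMod p) K r) = algebraMap (ZMod p) K r :=
    fun h r => RingHom.congr_fun (Subsingleton.elim (h.toRingHom.comp (algebraMap (ZMod p) K))
      (algebraMap (ZMod p) K)) r
  let f' : K ≃ₐ[ZMod p] K := AlgEquiv.ofRingEquiv (f := f) (hcomm f)
  let g' : K ≃ₐ[ZMod p] K := AlgEquiv.ofRingEquiv (f := g) (hcomm g)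
  have hf2 : f' ^ 2 = 1 := AlgEquiv.ext fun y => by
    rw [pow_two]; exact hf y
  have hg2 : g' ^ 2 = 1 := AlgEquiv.ext fun y => by
    rw [pow_two]; exact hg y
  have hf1 : f' ≠ 1 := fun h => ha (AlgEquiv.congr_fun h a)
  have hg1 : g' ≠ 1 := fun h => hb (AlgEquiv.congr_fun h b)
  haveI : Fintype (K ≃ₐ[ZMod p] K) := Fintype.ofFinite _
  have hle := IsCyclic.card_pow_eq_one_le (α := K ≃ₐ[ZMod p] K) (n := 2) (by norm_num)
  suffices f' = g' from AlgEquiv.congr_fun this x
  by_contra hne
  have hsub : ({1, f', g'} : Finset (K ≃ₐ[ZMod p] K)) ⊆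
      Finset.univ.filter fun a => a ^ 2 = 1 := by
    intro y hy
    simp only [Finset.mem_insert, Finset.mem_singleton] at hy
    rcases hy with rfl | rfl | rfl <;> simp [hf2, hg2]
  have h3 : ({1, f', g'} : Finset (K ≃ₐ[ZMod p] K)).card = 3 :=
    Finset.card_eq_three.2 ⟨1, f', g', hf1.symm, hg1.symm, hne, rfl⟩
  have := (Finset.card_le_card hsub).trans hle
  omega

end Cfsg.Agent.FusionHeis
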