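import Cfsg.Agent.Lib.FusionHeis.Core
import Cfsg.Agent.Lib.Fusion.Model
import Cfsg.Agent.Lib.Fusion.Normal

/-
Fusion systems on the Heisenberg group over a finite field.
Main result: `FusionHeis.Coord.exists_normal_centric` : a system with a nontrivial normal subgroup
has a centric normal one.
-/

set_option autoImplicit false

namespace Cfsg.Agent.FusionHeis

open Cfsg Cfsg.FusionSystem Cfsg.Agent.Fusion

variable {Ω : Type*} [Group Ω]

/-- Heisenberg coordinates on `S`. -/
structure Coord (S : Subgroup Ω) (K : Type*) [Field K] where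
  e : S ≃ K × K × K
  mul : ∀ s t : S, e (s * t) =
    ((e s).1 + (e t).1, (e s).2.1 + (e t).2.1, (e s).2.2 + (e t).2.2 + (e s).1 * (e t).2.1)

namespace Coord

variable {S : Subgroup Ω} {K : Type*} [Field K] (H : Coord S K)
include H

theorem comm_iff (s t : S) :
    s * t = t * s ↔ (H.e s).1 * (H.e t).2.1 = (H.e t).1 * (H.e s).2.1 := by
  rw [← H.e.injective.eq_iff, H.mul, H.mul]
  simp only [Prod.mk.injEq]
  constructor
  · rintro ⟨-, -, h⟩; linear_combination h
  · intro h; exact ⟨add_comm _ _, add_comm _ _, by linear_combination h⟩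

/-- The projection to the first two coordinates. -/
def ab : S →* Multiplicative (K × K) :=
  MonoidHom.mk' (fun s => Multiplicative.ofAdd ((H.e s).1, (H.e s).2.1)) fun s t => by
    apply Multiplicative.toAdd.injective
    simp [H.mul]

theorem mem_ker_ab {s : S} : s ∈ H.ab.ker ↔ (H.e s).1 = 0 ∧ (H.e s).2.1 = 0 := by
  rw [MonoidHom.mem_ker, ← Multiplicative.toAdd.injective.eq_iff]
  exact Prod.ext_iff

theorem central_iff {s : S} : s ∈ H.ab.ker ↔ ∀ t, s * t = t * s := by
  rw [H.mem_ker_ab]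
  refine ⟨fun h t => (H.comm_iff s t).2 (by simp [h.1, h.2]), fun h => ?_⟩
  have h1 := (H.comm_iff _ _).1 (h (H.e.symm (0, 1, 0)))
  have h2 := (H.comm_iff _ _).1 (h (H.e.symm (1, 0, 0)))
  simp only [Equiv.apply_symm_apply] at h1 h2
  exact ⟨by simpa using h1, by simpa using h2.symm⟩

theorem comm_trans {s t u : S} (hs : s ∉ H.ab.ker) (ht : s * t = t * s) (hu : s * u = u * s) :
    t * u = u * t := by
  rw [H.comm_iff] at ht hu ⊢
  rw [H.mem_ker_ab, not_and_or] at hs
  rcases hs with ha | hb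
  · refine mul_left_cancel₀ ha ?_
    linear_combination (H.e t).1 * hu - (H.e u).1 * ht
  · refine mul_left_cancel₀ hb ?_
    linear_combination (H.e t).2.1 * hu - (H.e u).2.1 * ht

/-- Elements of `R` in the centre of `S`. -/
def zIn (R : Subgroup Ω) (hR : R ≤ S) : Subgroup R := H.ab.ker.comap (Subgroup.inclusion hR)

theorem mem_zIn {R : Subgroup Ω} {hR : R ≤ S} {x : R} :
    x ∈ H.zIn R hR ↔ Subgroup.inclusion hR x ∈ H.ab.ker := Iff.rfl

variable {F : FusionSystem S} {p : ℕ}

theorem ker_le_centric {R : Subgroup Ω} (hc : F.IsCentric R) {s : S} (hs : s ∈ H.ab.ker) :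
    (s : Ω) ∈ R :=
  FusionChain.centralizerIn_le_of_centric hc (mem_centralizerIn.2 ⟨s.2, fun x hx =>
    congrArg Subtype.val (H.central_iff.1 hs ⟨x, hc.1 hx⟩)⟩)

theorem conj_eq (t : S) (s : S) : s⁻¹ * (t * s * t⁻¹) ∈ H.ab.ker := by
  rw [MonoidHom.mem_ker, map_mul, map_mul, map_mul, map_inv, map_inv]
  simp

theorem eq_top_of_zIn_inv [Finite S] [Fact p.Prime] (hS : IsPGroup p S) {R : Subgroup Ω}
    (hc : F.IsCentric R) (hr : F.IsRadical p R)
    (hinv : ∀ a ∈ F.autGroup R, ∀ x ∈ H.zIn R hc.1, a x ∈ H.zIn R hc.1) : R = S := by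
  refine FusionChain.eq_top_of_autS_le_pCore hS hc hr fun α hα => ?_
  obtain ⟨g, hg, e⟩ := mem_autInducedBy_iff.1 hα
  have heq : ∀ x : R, Subgroup.inclusion hc.1 (α x) =
      ⟨g, hg⟩ * Subgroup.inclusion hc.1 x * ⟨g, hg⟩⁻¹ := fun x => Subtype.ext (e x)
  let U : ℕ → Subgroup R := fun i => if i = 0 then ⊥ else if i = 1 then H.zIn R hc.1 else ⊤
  refine FusionChain.mem_pCoreAut_of_chain hS hc.1 2 U rfl rfl ?_ ?_
    (autInducedBy_le_autGroup F le_rfl hc.1 hα) ?_
  · intro i hi
    interval_cases i <;> simp [U]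
  · intro a ha i hi x hx
    interval_cases i
    · simp only [U, if_true, Subgroup.mem_bot] at hx ⊢
      rw [hx, map_one]
    · exact hinv a ha x hx
    · exact Subgroup.mem_top _
  · intro i hi x hx
    interval_cases i
    · show x⁻¹ * α x = 1
      rw [inv_mul_eq_one]
      refine Subgroup.inclusion_injective hc.1 ?_
      have hz : ∀ t, Subgroup.inclusion hc.1 x * t = t * Subgroup.inclusion hc.1 x :=
        H.central_iff.1 hx
      rw [heq, mul_assoc, hz, ← mul_assoc, mul_inv_cancel, one_mul]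
    · show x⁻¹ * α x ∈ H.zIn R hc.1
      rw [mem_zIn, map_mul, map_inv, heq]
      exact H.conj_eq _ _

theorem comm_of_ne_top [Finite S] [Fact p.Prime] (hS : IsPGroup p S) {R : Subgroup Ω}
    (hc : F.IsCentric R) (hr : F.IsRadical p R) (hne : R ≠ S) (x y : R) : x * y = y * x := by
  by_contra hxy
  refine hne (H.eq_top_of_zIn_inv hS hc hr fun a ha z hz => ?_)
  have hz' : ∀ u : R, z * u = u * z := fun u =>
    Subgroup.inclusion_injective hc.1 (by rw [map_mul, map_mul]; exact H.central_iff.1 hz _)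
  by_contra hn
  have hb : ∀ u : R, a z * u = u * a z := fun u => by
    obtain ⟨v, rfl⟩ := a.surjective u
    rw [← map_mul, hz', map_mul]
  exact hxy (Subgroup.inclusion_injective hc.1 (by
    rw [map_mul, map_mul]
    exact H.comm_trans hn (by rw [← map_mul, hb, map_mul]) (by rw [← map_mul, hb, map_mul])))

theorem exists_gen [Finite S] [Fact p.Prime] (hS : IsPGroup p S) {R : Subgroup Ω}
    (hc : F.IsCentric R) (hr : F.IsRadical p R) (hne : R ≠ S) :
    ∃ s : S, s ∉ H.ab.ker ∧ (s : Ω) ∈ R ∧ ∀ t : S, (t : Ω) ∈ R ↔ s * t = t * s := by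
  obtain ⟨x, hx⟩ : ∃ x : R, Subgroup.inclusion hc.1 x ∉ H.ab.ker := by
    by_contra h
    push Not at h
    exact hne (le_antisymm hc.1 fun y hy =>
      FusionChain.centralizerIn_le_of_centric hc (mem_centralizerIn.2 ⟨hy, fun z hz =>
        (congrArg Subtype.val (H.central_iff.1 (h ⟨z, hz⟩) ⟨y, hy⟩)).symm⟩))
  refine ⟨Subgroup.inclusion hc.1 x, hx, x.2, fun t => ⟨fun ht => ?_, fun ht => ?_⟩⟩
  · have := congrArg (Subgroup.inclusion hc.1) (H.comm_of_ne_top hS hc hr hne x ⟨t, ht⟩)
    rwa [map_mul, map_mul] at this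
  · refine FusionChain.centralizerIn_le_of_centric hc (mem_centralizerIn.2 ⟨t.2, fun z hz => ?_⟩)
    have := H.comm_trans (u := ⟨z, hc.1 hz⟩) hx ht (by
      have := congrArg (Subgroup.inclusion hc.1) (H.comm_of_ne_top hS hc hr hne x ⟨z, hz⟩)
      rw [map_mul, map_mul] at this
      exact this)
    exact congrArg Subtype.val this

theorem eq_top_of_line [Finite S] [Finite K] [Fact p.Prime] [CharP K p] (hS : IsPGroup p S)
    (hF : F.IsSaturated p) {R : Subgroup Ω} (hR : F.IsEssential p R) {Q : Subgroup Ω}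
    (hQ : F.IsNormal Q) (hQne : Q ≠ ⊥) (hQZ : ∀ s : S, (s : Ω) ∈ Q → s ∈ H.ab.ker) : R = S := by
  classical
  by_contra hne
  have hc := hR.1
  have hr := radical_of_essential hS hR
  obtain ⟨s, hs, -, hmem⟩ := H.exists_gen hS hc hr hne
  set a0 := (H.e s).1 with ha0
  set b0 := (H.e s).2.1 with hb0
  have hab : a0 ≠ 0 ∨ b0 ≠ 0 := by rwa [H.mem_ker_ab, not_and_or] at hs
  have hmem' : ∀ t : S, (t : Ω) ∈ R ↔ a0 * (H.e t).2.1 = (H.e t).1 * b0 := fun t =>
    (hmem t).trans (H.comm_iff s t)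
  -- the quadratic correction
  obtain ⟨γ, hγ⟩ : ∃ γ : K, a0 * b0 = γ + γ := by
    by_cases h2 : (2 : K) = 0
    · refine ⟨0, ?_⟩
      by_contra h0
      rw [add_zero] at h0
      refine hne (H.eq_top_of_zIn_inv hS hc hr fun a ha z hz => ?_)
      have hch : ∀ x : R, x * x = 1 ↔ x ∈ H.zIn R hc.1 := by
        intro x
        set t := Subgroup.inclusion hc.1 x
        have he1 : H.e 1 = 0 := by
          have := H.mul 1 1
          rw [one_mul, Prod.ext_iff, Prod.ext_iff] at this
          obtain ⟨e1, e2, e3⟩ := this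
          simp only at e1 e2 e3
          have e1' : (H.e 1).1 = 0 := left_eq_add.1 e1
          rw [e1', zero_mul, add_zero] at e3
          exact Prod.ext e1' (Prod.ext (left_eq_add.1 e2) (left_eq_add.1 e3))
        have h22 : ∀ k : K, k + k = 0 := fun k => by rw [← two_mul, h2, zero_mul]
        have hmx := (hmem' t).1 x.2
        rw [← (Subgroup.inclusion_injective hc.1).eq_iff, map_mul, map_one, H.mem_zIn,
          H.mem_ker_ab, ← H.e.injective.eq_iff, H.mul, he1]
        rw [Prod.ext_iff, Prod.ext_iff]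
        simp only [h22, Prod.fst_zero, Prod.snd_zero, true_and, zero_add]
        refine ⟨fun h => ?_, fun h => by rw [h.1, zero_mul]⟩
        rcases mul_eq_zero.1 h with h | h
        · rw [h, zero_mul] at hmx
          exact ⟨h, (mul_eq_zero.1 hmx).resolve_left (left_ne_zero_of_mul h0)⟩
        · rw [h, mul_zero] at hmx
          exact ⟨(mul_eq_zero.1 hmx.symm).resolve_right (right_ne_zero_of_mul h0), h⟩
      rw [← hch] at hz ⊢
      rw [← map_mul, hz, map_one]
    · exact ⟨a0 * b0 / 2, by field_simp; ring⟩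
  let U : K × K → R := fun v => ⟨H.e.symm (v.1 * a0, v.1 * b0, v.2 + γ * v.1 ^ 2),
    (hmem' _).2 (by simp only [Equiv.apply_symm_apply]; ring)⟩
  have hU : ∀ v, H.e (Subgroup.inclusion hc.1 (U v)) =
      (v.1 * a0, v.1 * b0, v.2 + γ * v.1 ^ 2) := fun v => by
    simp [U, Subgroup.inclusion]
  have hUinj : Function.Injective U := fun v w h => by
    have := congrArg (fun x => H.e (Subgroup.inclusion hc.1 x)) h
    simp only [hU, Prod.mk.injEq] at this
    obtain ⟨e1, e2, e3⟩ := this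
    have e : v.1 = w.1 := hab.elim (fun h => mul_right_cancel₀ h e1) fun h => mul_right_cancel₀ h e2
    rw [e] at e3
    exact Prod.ext e (add_right_cancel e3)
  have hUsurj : Function.Surjective U := fun x => by
    set t := Subgroup.inclusion hc.1 x with ht
    have hm := (hmem' t).1 x.2
    obtain ⟨k, hk1, hk2⟩ : ∃ k, k * a0 = (H.e t).1 ∧ k * b0 = (H.e t).2.1 := by
      rcases hab with h | h
      · refine ⟨(H.e t).1 / a0, div_mul_cancel₀ _ h, ?_⟩
        rw [div_mul_eq_mul_div, div_eq_iff h, ← hm, mul_comm]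
      · refine ⟨(H.e t).2.1 / b0, ?_, div_mul_cancel₀ _ h⟩
        rw [div_mul_eq_mul_div, div_eq_iff h, mul_comm, hm]
    refine ⟨(k, (H.e t).2.2 - γ * k ^ 2), Subgroup.inclusion_injective hc.1 (H.e.injective ?_)⟩
    rw [hU, ← ht]
    simp [hk1, hk2]
  have hUadd : ∀ v w, U (v + w) = U v * U w := fun v w =>
    Subgroup.inclusion_injective hc.1 (H.e.injective (by
      rw [map_mul, H.mul, hU, hU, hU, Prod.mk.injEq, Prod.mk.injEq]
      simp only [Prod.fst_add, Prod.snd_add]
      exact ⟨by ring, by ring, by linear_combination -(v.1 * w.1) * hγ⟩))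
  let W : R ≃* Multiplicative (K × K) := MulEquiv.symm
    { Equiv.ofBijective (fun v : Multiplicative (K × K) => U v.toAdd)
        ⟨fun v w h => Multiplicative.toAdd.injective (hUinj h),
         fun x => let ⟨v, hv⟩ := hUsurj x; ⟨Multiplicative.ofAdd v, hv⟩⟩ with
      map_mul' := fun v w => hUadd _ _ }
  have hWU : ∀ v, W (U v) = Multiplicative.ofAdd v := fun v =>
    W.symm.injective (by rw [MulEquiv.symm_apply_apply]; rfl)
  have hWs : ∀ x, W x = Multiplicative.ofAdd (W x).toAdd := fun x => rfl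
  have hUW : ∀ x, U (W x).toAdd = x := fun x => by
    obtain ⟨v, rfl⟩ := hUsurj x; rw [hWU]; rfl
  -- automorphisms as endomorphisms of `K × K`
  have := finite_mulAut hc.1
  let ρ : F.autGroup R →* AddMonoid.End (K × K) :=
    { toFun := fun α =>
        { toFun := fun v => (W ((α : MulAut R) (U v))).toAdd
          map_zero' := by
            have : U 0 = 1 := W.injective (by rw [hWU, map_one]; rfl)
            rw [this, map_one, map_one]; rfl
          map_add' := fun v w => by rw [hUadd, map_mul, map_mul, toAdd_mul] }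
      map_one' := AddMonoidHom.ext fun v => by
        show (W (U v)).toAdd = v
        rw [hWU]; rfl
      map_mul' := fun α β => AddMonoidHom.ext fun v => by
        show (W ((α : MulAut R) ((β : MulAut R) (U v)))).toAdd =
          (W ((α : MulAut R) (U (W ((β : MulAut R) (U v))).toAdd))).toAdd
        rw [hUW] }
  have hρ : ∀ (α : F.autGroup R) v, ρ α v = (W ((α : MulAut R) (U v))).toAdd := fun α v => rfl
  have hconj : ∀ (t : S) (v : K × K),
      (t : Ω) * (U v : Ω) * (t : Ω)⁻¹ = U (v.1, v.2 + ((H.e t).1 * b0 - a0 * (H.e t).2.1) * v.1) := by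
    intro t v
    rw [mul_inv_eq_iff_eq_mul]
    refine congrArg Subtype.val (H.e.injective ?_ :
      t * Subgroup.inclusion hc.1 (U v) = Subgroup.inclusion hc.1 (U _) * t)
    rw [H.mul, H.mul, hU, hU, Prod.mk.injEq, Prod.mk.injEq]
    exact ⟨by ring, by ring, by ring⟩
  have hnorm : ∀ t : S, (t : Ω) ∈ normalizerIn S R := fun t => by
    refine mem_normalizerIn.2 ⟨t.2, fun x => ⟨fun hx => ?_, fun hx => ?_⟩⟩
    · obtain ⟨v, hv⟩ := hUsurj ⟨x, hx⟩
      have : x = (U v : Ω) := (congrArg Subtype.val hv).symm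
      rw [this, hconj]
      exact (U _).2
    · obtain ⟨v, hv⟩ := hUsurj ⟨_, hx⟩
      have := hconj t⁻¹ v
      rw [hv] at this
      simp only [InvMemClass.coe_inv, inv_inv] at this
      rw [show x = (t : Ω)⁻¹ * ((t : Ω) * x * (t : Ω)⁻¹) * t by group, this]
      exact (U _).2
  let μ : S → F.autGroup R := fun t => ⟨normConj S R ⟨t, hnorm t⟩,
    autInducedBy_le_autGroup F le_rfl hc.1 (range_normConj S R ▸ ⟨_, rfl⟩)⟩
  have hμ : ∀ t v, ρ (μ t) v = (v.1, v.2 + ((H.e t).1 * b0 - a0 * (H.e t).2.1) * v.1) := by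
    intro t v
    rw [hρ, show (μ t : MulAut R) (U v) = _ from Subtype.ext (hconj t v), hWU]
    rfl
  have hρinj : Function.Injective ρ := fun α β h => Subtype.ext (MulEquiv.ext fun x => by
    obtain ⟨v, rfl⟩ := hUsurj x
    exact W.injective (Multiplicative.toAdd.injective (DFunLike.congr_fun h v)))
  obtain ⟨c, d, hcd⟩ : ∃ c d : K, c * b0 - a0 * d = 1 := by
    rcases hab with h | h
    · exact ⟨0, -a0⁻¹, by field_simp; simp⟩
    · exact ⟨b0⁻¹, 0, by field_simp; simp⟩
  let τ : K → F.autGroup R := fun m => μ (H.e.symm (c * m, d * m, 0))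
  have hτ : ∀ m v, ρ (τ m) v = (v.1, v.2 + m * v.1) := fun m v => by
    rw [hμ]
    simp only [Equiv.apply_symm_apply]
    rw [show c * m * b0 - a0 * (d * m) = m by linear_combination m * hcd]
  obtain ⟨-, P, hP⟩ := fullyAutomized_of_fullyNormalized hS hF hR.2.1
  let D : Act p K (F.autGroup R) :=
    { ρ := ρ
      inj := hρinj
      τ := τ
      τ_apply := hτ
      P := P
      mem_P := fun α => by
        show α ∈ (P : Subgroup (F.autGroup R)) ↔ _
        rw [hP, Subgroup.mem_subgroupOf, mem_autInducedBy_iff]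
        refine ⟨fun ⟨g, hg, e⟩ => ⟨(H.e ⟨g, hg⟩).1 * b0 - a0 * (H.e ⟨g, hg⟩).2.1, hρinj
          (AddMonoidHom.ext fun v => ?_)⟩, fun ⟨m, hm⟩ => ?_⟩
        · show ρ (τ _) v = ρ α v
          rw [hτ, ← hμ ⟨g, hg⟩ v]
          rw [show μ ⟨g, hg⟩ = α from Subtype.ext (MulEquiv.ext fun x => Subtype.ext (e x).symm)]
        · subst hm
          exact ⟨_, (H.e.symm _).2, fun x => rfl⟩ }
  obtain ⟨q, hq, hq1⟩ := (Subgroup.bot_or_exists_ne_one Q).resolve_left hQne
  set qS : S := ⟨q, hQ.1 hq⟩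
  have hqk := H.mem_ker_ab.1 (hQZ qS hq)
  have hUq : (U (0, (H.e qS).2.2) : Ω) = q :=
    congrArg Subtype.val (H.e.injective (by rw [hU]; simp [hqk.1, hqk.2, Prod.ext_iff]) :
      Subgroup.inclusion hc.1 (U (0, (H.e qS).2.2)) = qS)
  refine D.false_of_line ?_ (w := (H.e qS).2.2) ?_ ?_
  · intro hn
    refine hne (FusionChain.eq_top_of_autS_le_pCore hS hc hr ?_)
    refine FusionChain.le_pCoreAut (isPGroup_autInducedBy hS)
      (autInducedBy_le_autGroup F le_rfl hc.1) fun α hα k hk => ?_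
    have hk' : (⟨k, autInducedBy_le_autGroup F le_rfl hc.1 hk⟩ : F.autGroup R) ∈
        (P : Subgroup (F.autGroup R)) := by
      rw [hP]; exact hk
    have := hn.conj_mem _ hk' ⟨α, hα⟩
    change _ ∈ (P : Subgroup (F.autGroup R)) at this
    rw [hP] at this
    exact this
  · intro h0
    refine hq1 (hUq ▸ ?_)
    rw [h0, ← Prod.zero_eq_mk, show U 0 = 1 from W.injective (by rw [hWU, map_one]; rfl),
      Subgroup.coe_one]
  · intro α
    have hxR : q ∈ R := hUq ▸ (U _).2
    have h1 := autFn_mem_of_stronglyClosed (stronglyClosed_of_normal hQ) hc.1 α.2 hxR hq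
    rw [autFn_apply _ hxR, show (⟨q, hxR⟩ : R) = U (0, (H.e qS).2.2) from Subtype.ext hUq.symm] at h1
    set v := D.ρ α (0, (H.e qS).2.2)
    have hv : U v = (α : MulAut R) (U (0, (H.e qS).2.2)) := hUW _
    have h2 := H.mem_ker_ab.1 (hQZ (Subgroup.inclusion hc.1 (U v)) (by rw [hv]; exact h1))
    rw [hU] at h2
    exact hab.elim (fun h => (mul_eq_zero.1 h2.1).resolve_right h)
      fun h => (mul_eq_zero.1 h2.2).resolve_right h

theorem exists_normal_centric [Finite S] [Finite K] [Fact p.Prime] [CharP K p]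
    (hS : IsPGroup p S) (hF : F.IsSaturated p) {Q : Subgroup Ω} (hQ : F.IsNormal Q)
    (hQne : Q ≠ ⊥) : ∃ N, F.IsNormal N ∧ F.IsCentric N := by
  have hsc := stronglyClosed_of_normal hQ
  by_cases hex : ∃ R, F.IsEssential p R ∧ R ≠ S
  · obtain ⟨R0, hR0, hne⟩ := hex
    obtain ⟨q0, hq0Q, hq0⟩ : ∃ s : S, (s : Ω) ∈ Q ∧ s ∉ H.ab.ker := by
      by_contra h
      push Not at h
      exact hne (H.eq_top_of_line hS hF hR0 hQ hQne h)
    have hkey : ∀ R, F.IsEssential p R → R ≠ S → ∀ t : S, (t : Ω) ∈ R ↔ q0 * t = t * q0 := by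
      intro R hR hR' t
      obtain ⟨s, hs, -, hmem⟩ := H.exists_gen hS hR.1 (radical_of_essential hS hR) hR'
      have hq : s * q0 = q0 * s :=
        (hmem q0).1 (le_radical_of_normal hS hQ hR.1 (radical_of_essential hS hR) hq0Q)
      exact (hmem t).trans ⟨fun h => (H.comm_trans hs hq h),
        fun h => H.comm_trans hq0 hq.symm h⟩
    refine ⟨R0, isNormal_of_essentials hS hF hR0.1.1 fun R hR => ?_, hR0.1⟩
    by_cases hRS : R = S
    · subst hRS
      refine ⟨hR0.1.1, fun α hα x hx => ?_⟩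
      rw [autFn_apply α (hR0.1.1 hx)]
      set y : R := ⟨x, hR0.1.1 hx⟩
      have h1 : (α q0 : Ω) ∈ Q := by
        have := autFn_mem_of_stronglyClosed hsc le_rfl hα q0.2 hq0Q
        rwa [autFn_apply α q0.2] at this
      have h2 : α q0 ∉ H.ab.ker := fun h => hq0 (H.central_iff.2 fun t => α.injective (by
        rw [map_mul, map_mul]; exact H.central_iff.1 h _))
      have h3 : q0 * α q0 = α q0 * q0 := (hkey R0 hR0 hne _).1
        (le_radical_of_normal hS hQ hR0.1 (radical_of_essential hS hR0) h1)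
      have h4 : α q0 * α y = α y * α q0 := by
        rw [← map_mul, (hkey R0 hR0 hne y).1 hx, map_mul]
      exact (hkey R0 hR0 hne _).2 (H.comm_trans h2 h3.symm h4)
    · have hess := hR.resolve_left hRS
      have hsub : ∀ x ∈ R0, x ∈ R := fun x hx => (hkey R hess hRS ⟨x, hR0.1.1 hx⟩).2
        ((hkey R0 hR0 hne ⟨x, hR0.1.1 hx⟩).1 hx)
      refine ⟨hsub, fun α hα x hx => ?_⟩
      have hy := autFn_mem α (hsub x hx)
      exact (hkey R0 hR0 hne ⟨_, hess.1.1 hy⟩).2 ((hkey R hess hRS ⟨_, hess.1.1 hy⟩).1 hy)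
  · push Not at hex
    refine ⟨S, isNormal_of_essentials hS hF le_rfl fun R hR => ?_, ⟨le_rfl, fun P hP => ?_⟩⟩
    · have : R = S := hR.elim id (hex R)
      subst this
      exact ⟨le_rfl, fun α _ x hx => autFn_mem α hx⟩
    · obtain ⟨f, hf⟩ := isConj_iff.1 hP
      have : P = S := eq_of_le_of_card le_rfl (hf.2 ▸ hf.1.img_le_S)
        (by rw [← hf.2, hf.1.card_img le_rfl])
      rw [this]
      exact inf_le_left

end Coord

end Cfsg.Agent.FusionHeis
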